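import Cfsg.Agent.H690.CY.Ree

/-!
# S4829, own characteristic `p` odd: the dispatcher (helper690)

* `LieRows p` : the rows of the families in their own characteristic `p`;
* `lie_of_rows` : `LieRows p → RowForA p (IsLieTypeChar p)` for `p ≠ 2` (the small Ree groups are done in `Ree.lean`).
-/

set_option autoImplicit false

open Cfsg

namespace Cfsg.Agent.H690.CY

open Cfsg.Agent.H770.CY

/-- the rows of the families in their own characteristic -/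
structure LieRows (p : ℕ) : Prop where
  psl2 : RowForA p (fun X _ => ∃ (F : Type) (_ : Field F) (_ : Fintype F) (_ : CharP F p), 4 ≤ Fintype.card F ∧
    Nonempty (X ≃* Matrix.ProjectiveSpecialLinearGroup (Fin 2) F))
  psl : RowForA p (fun X _ => ∃ (F : Type) (_ : Field F) (_ : Fintype F) (_ : CharP F p) (n : ℕ), 3 ≤ n ∧
    Nonempty (X ≃* Matrix.ProjectiveSpecialLinearGroup (Fin n) F))
  psp : RowForA p (fun X _ => ∃ (F : Type) (_ : Field F) (_ : Fintype F) (_ : CharP F p) (m : ℕ), 2 ≤ m ∧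
    Nonempty (X ≃* PSp m F))
  psu : RowForA p (fun X _ => ∃ (F : Type) (_ : Field F) (_ : Fintype F) (_ : CharP F p) (n q : ℕ),
    Fintype.card F = q ^ 2 ∧ 3 ≤ n ∧ Nonempty (X ≃* PSU n F q))
  oodd : RowForA p (fun X _ => ∃ (F : Type) (_ : Field F) (_ : Fintype F) (_ : CharP F p) (m : ℕ), 3 ≤ m ∧
    Odd (Fintype.card F) ∧ Nonempty (X ≃* POmega F (quadFormOdd m F)))
  oplus : RowForA p (fun X _ => ∃ (F : Type) (_ : Field F) (_ : Fintype F) (_ : CharP F p) (m : ℕ), 4 ≤ m ∧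
    Nonempty (X ≃* POmega F (quadFormPlus m F)))
  ominus : RowForA p (fun X _ => ∃ (F : Type) (_ : Field F) (_ : Fintype F) (_ : CharP F p) (m : ℕ) (a b : F), 4 ≤ m ∧
    (∀ z₁ z₂ : F, z₁ ^ 2 + a * z₁ * z₂ + b * z₂ ^ 2 = 0 → z₁ = 0 ∧ z₂ = 0) ∧
    Nonempty (X ≃* POmega F (quadFormMinus (m - 1) F a b)))
  g2 : RowForA p (fun X _ => ∃ (F : Type) (_ : Field F) (_ : Fintype F) (_ : CharP F p), 3 ≤ Fintype.card F ∧
    Nonempty (X ≃* Lie.chevG2.group F))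
  f4 : RowForA p (fun X _ => ∃ (F : Type) (_ : Field F) (_ : Fintype F) (_ : CharP F p),
    Nonempty (X ≃* Lie.chevF4.group F))
  e6 : RowForA p (fun X _ => ∃ (F : Type) (_ : Field F) (_ : Fintype F) (_ : CharP F p),
    Nonempty (X ≃* Lie.chevE6.group F))
  e7 : RowForA p (fun X _ => ∃ (F : Type) (_ : Field F) (_ : Fintype F) (_ : CharP F p),
    Nonempty (X ≃* Lie.chevE7.group F))
  e8 : RowForA p (fun X _ => ∃ (F : Type) (_ : Field F) (_ : Fintype F) (_ : CharP F p),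
    Nonempty (X ≃* Lie.chevE8.group F))
  te6 : RowForA p (fun X _ => ∃ (K : Type) (_ : Field K) (_ : Fintype K) (_ : CharP K p) (q : ℕ), IsPrimePow q ∧
    Fintype.card K = q ^ 2 ∧ Nonempty (X ≃* Lie.twistedE6 K q))
  td4 : RowForA p (fun X _ => ∃ (K : Type) (_ : Field K) (_ : Fintype K) (_ : CharP K p) (q : ℕ), IsPrimePow q ∧
    Fintype.card K = q ^ 3 ∧ Nonempty (X ≃* Lie.twistedD4 K q))

/-- **the row of the groups of Lie type in their own characteristic, `p` odd** -/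
theorem lie_of_rows {p : ℕ} (hp2 : p ≠ 2) (R : LieRows p) : RowForA p (fun X _ => IsLieTypeChar p X) := by
  intro X _ _ _ hna hd hX
  rcases hX with ⟨F, i1, i2, i3, n, hn, h4, e⟩ | ⟨F, i1, i2, i3, m, hm, -, e⟩ | ⟨F, i1, i2, i3, n, q, hq, hn, -, e⟩ |
    ⟨F, i1, i2, i3, m, hm, ho, e⟩ | ⟨F, i1, i2, i3, m, hm, e⟩ | ⟨F, i1, i2, i3, m, a, b, hm, hab, e⟩ |
    ⟨F, i1, i2, i3, ⟨h3, e⟩ | e | e | e | e⟩ | ⟨F, i1, i2, i3, q, hq, ⟨hF, e⟩ | ⟨hF, e⟩⟩ | ⟨h2, -⟩ | ⟨h2, -⟩ | ⟨h3, hR⟩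
  · rcases Nat.lt_or_ge 2 n with h | h
    · exact R.psl X hna hd ⟨F, i1, i2, i3, n, h, e⟩
    · obtain rfl : n = 2 := le_antisymm h hn
      exact R.psl2 X hna hd ⟨F, i1, i2, i3, h4 rfl, e⟩
  · exact R.psp X hna hd ⟨F, i1, i2, i3, m, hm, e⟩
  · exact R.psu X hna hd ⟨F, i1, i2, i3, n, q, hq, hn, e⟩
  · exact R.oodd X hna hd ⟨F, i1, i2, i3, m, hm, ho, e⟩
  · exact R.oplus X hna hd ⟨F, i1, i2, i3, m, hm, e⟩
  · exact R.ominus X hna hd ⟨F, i1, i2, i3, m, a, b, hm, hab, e⟩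
  · exact R.g2 X hna hd ⟨F, i1, i2, i3, h3, e⟩
  · exact R.f4 X hna hd ⟨F, i1, i2, i3, e⟩
  · exact R.e6 X hna hd ⟨F, i1, i2, i3, e⟩
  · exact R.e7 X hna hd ⟨F, i1, i2, i3, e⟩
  · exact R.e8 X hna hd ⟨F, i1, i2, i3, e⟩
  · exact R.te6 X hna hd ⟨F, i1, i2, i3, q, hq, hF, e⟩
  · exact R.td4 X hna hd ⟨F, i1, i2, i3, q, hq, hF, e⟩
  · exact absurd h2 hp2
  · exact absurd h2 hp2
  · subst h3
    exact rowForA_ree X hna hd hR

end Cfsg.Agent.H690.CY
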