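import Cfsg.Agent.H770.CY.Defs
import Cfsg.Agent.H589.BD.Ex
import Cfsg.Agent.Characters.Clifford
import Cfsg.Agent.Characters.Brauer
import Cfsg.Agent.Characters.Linear
import Cfsg.Agent.Characters.GaloisIrr
import Cfsg.Agent.OddOrderCharacters.Clifford

/-!
# S4829, own characteristic, rank one (helper690)

`U ≤ B ≤ S`, `|S : B| = |U| + 1`, every nontrivial element of `U` fixes only one point of `S / B`; `lam` a linear
character of `B`, trivial on `U`, fixed by the Galois maps fixing the `p`-th roots of unity.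

* `mult_one_cyc` : the constituents of `indFun B lam` have multiplicity one and are `Cyc p`.
-/

set_option autoImplicit false

open Cfsg

namespace Cfsg.Agent.H690.CY

open Cfsg.Agent.Characters Cfsg.Agent.H770.CY
open scoped ComplexConjugate

universe u

variable {p : ℕ} {S : Type u} [Group S] [Fintype S]

/-- three distinct elements of weight at least one -/
theorem sum_ge_three {ι : Type*} [Fintype ι] (w : ι → ℕ) {i j k : ι} (hij : i ≠ j) (hik : i ≠ k) (hjk : j ≠ k)
    (hi : 1 ≤ w i) (hj : 1 ≤ w j) (hk : 1 ≤ w k) : 3 ≤ ∑ x, w x := by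
  classical
  have h1 : ∑ x ∈ ({i, j, k} : Finset ι), w x ≤ ∑ x, w x :=
    Finset.sum_le_univ_sum_of_nonneg (fun _ => Nat.zero_le _)
  have h2 : ∑ x ∈ ({i, j, k} : Finset ι), w x = w i + (w j + w k) := by
    rw [Finset.sum_insert (by simp [hij, hik]), Finset.sum_insert (by simp [hjk]), Finset.sum_singleton]
  omega

/-- the values of the induced character on `U` -/
theorem indFun_U (U B : Subgroup S) (hUB : U ≤ B) (hfix : ∀ u ∈ U, u ≠ 1 → ∀ g : S, g⁻¹ * u * g ∈ B → g ∈ B)
    (lam : B →* ℂˣ) (hlU : ∀ u (hu : u ∈ U), lam ⟨u, hUB hu⟩ = 1) {u : S} (hu : u ∈ U) (hu1 : u ≠ 1) :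
    indFun B (fun b => ((lam b : ℂˣ) : ℂ)) u = 1 := by
  classical
  rw [Core.indFun_apply]
  have h1 : ∀ x : S, extendByZero B (fun b => ((lam b : ℂˣ) : ℂ)) (x⁻¹ * u * x) = if x ∈ B then 1 else 0 := by
    intro x
    split_ifs with hx
    · have h2 : x⁻¹ * u * x ∈ B := B.mul_mem (B.mul_mem (B.inv_mem hx) (hUB hu)) hx
      rw [Core.extendByZero_of_mem B _ h2]
      have h3 : (⟨x⁻¹ * u * x, h2⟩ : B) = (⟨x, hx⟩ : B)⁻¹ * ⟨u, hUB hu⟩ * ⟨x, hx⟩ := rfl
      rw [h3, map_mul, map_mul, hlU u hu, mul_one, map_inv, inv_mul_cancel, Units.val_one]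
    · rw [Core.extendByZero_of_notMem B _ (fun h => hx (hfix u hu hu1 x h))]
  rw [Finset.sum_congr rfl fun x _ => h1 x, Finset.sum_ite, Finset.sum_const_zero, add_zero, Finset.sum_const,
    nsmul_eq_mul, mul_one]
  have h2 : (Finset.univ.filter fun x : S => x ∈ B).card = Nat.card B := by
    rw [Nat.card_eq_fintype_card, ← Fintype.card_subtype]
  rw [h2, inv_mul_cancel₀]
  exact_mod_cast Nat.card_pos.ne'

/-- the multiplicity of a linear character of `U` in the restriction of the induced character -/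
theorem inner_U (U B : Subgroup S) [Fintype U] (hUB : U ≤ B)
    (hfix : ∀ u ∈ U, u ≠ 1 → ∀ g : S, g⁻¹ * u * g ∈ B → g ∈ B) (hidx : B.index = Nat.card U + 1)
    (lam : B →* ℂˣ) (hlU : ∀ u (hu : u ∈ U), lam ⟨u, hUB hu⟩ = 1) (ψ : U →* ℂˣ) :
    classInner (fun x : U => indFun B (fun b => ((lam b : ℂˣ) : ℂ)) x) (fun x : U => ((ψ x : ℂˣ) : ℂ)) =
      1 + classInner (fun _ : U => (1 : ℂ)) (fun x : U => ((ψ x : ℂˣ) : ℂ)) := by
  classical
  rw [Core.classInner_def, Core.classInner_def]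
  have h0 : (Nat.card U : ℂ) ≠ 0 := by exact_mod_cast (Nat.card_pos (α := U)).ne'
  have h1 : ∀ x : U, indFun B (fun b => ((lam b : ℂˣ) : ℂ)) x * conj (((ψ x : ℂˣ) : ℂ)) =
      1 * conj (((ψ x : ℂˣ) : ℂ)) + if x = 1 then (Nat.card U : ℂ) else 0 := by
    intro x
    split_ifs with hx
    · subst hx
      have h2 := Cfsg.Agent.H589.BD.indFun_one B (fun b => ((lam b : ℂˣ) : ℂ))
      rw [Subgroup.coe_one, h2, hidx]
      simp
      ring
    · rw [indFun_U U B hUB hfix lam hlU x.2 (fun h => hx (Subtype.ext h)), add_zero]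
  rw [Finset.sum_congr rfl fun x _ => h1 x, Finset.sum_add_distrib, mul_add, Finset.sum_ite_eq' Finset.univ (1 : U)]
  simp only [Finset.mem_univ, if_true]
  rw [inv_mul_cancel₀ h0]
  ring

/-- `[θ|B, lam] ≤ [θ|U, 1]` -/
theorem inner_le (U B : Subgroup S) [Fintype U] [Fintype B] (hUB : U ≤ B) (lam : B →* ℂˣ)
    (hlU : ∀ u (hu : u ∈ U), lam ⟨u, hUB hu⟩ = 1) {θ : S → ℂ} (hθ : IsCharacter S θ) {a b : ℕ}
    (ha : classInner (fun x : B => θ x) (fun x : B => ((lam x : ℂˣ) : ℂ)) = a)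
    (hb : classInner (fun x : U => θ x) (fun _ : U => (1 : ℂ)) = b) : a ≤ b := by
  classical
  have : Finite (IrrCharacter B) := Core.finite_irr
  let _ : Fintype (IrrCharacter B) := Fintype.ofFinite _
  have hθB : IsCharacter B (fun x : B => θ x) := Core.isCharacter_comp B.subtype hθ
  have hnat : ∀ χ : IrrCharacter B, ∃ n : ℕ, classInner (fun x : B => θ x) (χ : B → ℂ) = n :=
    fun χ => Core.classInner_isNat hθB (Core.isIrr_isCharacter χ.2)
  choose c hc using hnat
  let ι : U →* B := Subgroup.inclusion hUB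
  have hnat2 : ∀ χ : IrrCharacter B, ∃ n : ℕ, classInner ((χ : B → ℂ) ∘ ι) (fun _ : U => (1 : ℂ)) = n :=
    fun χ => Core.classInner_isNat (Core.isCharacter_comp ι (Core.isIrr_isCharacter χ.2))
      (Core.isIrr_isCharacter Core.isIrr_one)
  choose d hd using hnat2
  let L : IrrCharacter B := ⟨fun x => ((lam x : ℂˣ) : ℂ), Linear.isIrrCharacter_hom lam⟩
  have e1 : (fun x : U => θ x) = ∑ χ : IrrCharacter B, (c χ : ℂ) • ((χ : B → ℂ) ∘ ι) := by
    funext x
    have h2 := congrFun (Core.classFunction_eq_sum (Core.isCharacter_isClassFunction hθB)) (ι x)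
    simp only [Finset.sum_apply, Pi.smul_apply] at h2
    refine h2.trans ?_
    simp only [Finset.sum_apply, Pi.smul_apply, Function.comp_apply]
    exact Finset.sum_congr rfl fun χ _ => by rw [hc]
  have e2 : (b : ℂ) = ∑ χ : IrrCharacter B, (c χ : ℂ) * (d χ : ℂ) := by
    rw [← hb, e1, Core.classInner_sum_left]
    refine Finset.sum_congr rfl fun χ _ => ?_
    rw [Core.classInner_smul_left, hd]
  have e3 : b = ∑ χ : IrrCharacter B, c χ * d χ := by exact_mod_cast e2
  have e4 : c L = a := by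
    have h2 := hc L
    rw [ha] at h2
    exact_mod_cast h2.symm
  have e5 : d L = 1 := by
    have h2 := hd L
    have h3 : ((L : IrrCharacter B) : B → ℂ) ∘ ι = (1 : U → ℂ) := by
      funext x
      show ((lam (ι x) : ℂˣ) : ℂ) = 1
      have h4 : lam (ι x) = 1 := hlU x x.2
      rw [h4, Units.val_one]
    rw [h3] at h2
    have h5 := Core.classInner_irr_self (G := U) Core.isIrr_one
    have h6 : (fun _ : U => (1 : ℂ)) = (1 : U → ℂ) := rfl
    rw [h6, h5] at h2
    exact_mod_cast h2.symm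
  rw [e3]
  calc a = c L * d L := by rw [e4, e5, mul_one]
    _ ≤ _ := Finset.single_le_sum (f := fun χ : IrrCharacter B => c χ * d χ) (fun _ _ => Nat.zero_le _)
        (Finset.mem_univ L)

/-- **The constituents of `indFun B lam` in rank one.** -/
theorem mult_one_cyc (U B : Subgroup S) (hUB : U ≤ B)
    (hfix : ∀ u ∈ U, u ≠ 1 → ∀ g : S, g⁻¹ * u * g ∈ B → g ∈ B) (hidx : B.index = Nat.card U + 1)
    (lam : B →* ℂˣ) (hlU : ∀ u (hu : u ∈ U), lam ⟨u, hUB hu⟩ = 1)
    (hpow : ∀ k : ℕ, k.Coprime (Nat.card S) → k ≡ 1 [MOD p] → ∀ b, lam (b ^ k) = lam b)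
    (ψ : U →* ℂˣ) (hψ1 : ∃ x, ψ x ≠ 1) (hψp : ∀ x, ψ x ^ p = 1) (θ : IrrCharacter S)
    (hθ : classInner (indFun B (fun b => ((lam b : ℂˣ) : ℂ))) (θ : S → ℂ) ≠ 0) :
    classInner (indFun B (fun b => ((lam b : ℂˣ) : ℂ))) (θ : S → ℂ) = 1 ∧ Cyc p (θ : S → ℂ) := by
  classical
  let _ : Fintype U := Fintype.ofFinite _
  let _ : Fintype B := Fintype.ofFinite _
  have : Finite (IrrCharacter S) := Core.finite_irr
  let _ : Fintype (IrrCharacter S) := Fintype.ofFinite _
  have hΘ : IsCharacter S (indFun B (fun b => ((lam b : ℂˣ) : ℂ))) :=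
    Brauer.isCharacter_indFun B (Linear.isCharacter_hom lam)
  set Θ := indFun B (fun b => ((lam b : ℂˣ) : ℂ)) with hΘdef
  have hΘc := Core.isCharacter_isClassFunction hΘ
  -- the multiplicities
  have hna : ∀ χ : IrrCharacter S, ∃ n : ℕ, classInner Θ (χ : S → ℂ) = n :=
    fun χ => Core.classInner_isNat hΘ (Core.isIrr_isCharacter χ.2)
  choose a ha using hna
  have hnb : ∀ χ : IrrCharacter S, ∃ n : ℕ, classInner (fun x : U => (χ : S → ℂ) x) (fun _ : U => (1 : ℂ)) = n :=
    fun χ => Core.classInner_isNat (Core.isCharacter_comp U.subtype (Core.isIrr_isCharacter χ.2))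
      (Core.isIrr_isCharacter Core.isIrr_one)
  choose b hb using hnb
  have hnc : ∀ χ : IrrCharacter S, ∃ n : ℕ,
      classInner (fun x : U => (χ : S → ℂ) x) (fun x : U => ((ψ x : ℂˣ) : ℂ)) = n :=
    fun χ => Core.classInner_isNat (Core.isCharacter_comp U.subtype (Core.isIrr_isCharacter χ.2))
      (Linear.isCharacter_hom ψ)
  choose c hc using hnc
  have hres : ∀ φ : U → ℂ, classInner (fun x : U => Θ x) φ =
      ∑ χ : IrrCharacter S, (a χ : ℂ) * classInner (fun x : U => (χ : S → ℂ) x) φ := by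
    intro φ
    have e1 : (fun x : U => Θ x) = ∑ χ : IrrCharacter S, (a χ : ℂ) • (fun x : U => (χ : S → ℂ) x) := by
      funext x
      have h2 := congrFun (Core.classFunction_eq_sum hΘc) (x : S)
      simp only [Finset.sum_apply, Pi.smul_apply] at h2 ⊢
      rw [h2]
      exact Finset.sum_congr rfl fun χ _ => by rw [ha]
    rw [e1, Core.classInner_sum_left]
    exact Finset.sum_congr rfl fun χ _ => by rw [Core.classInner_smul_left]
  -- the sums
  have hone : classInner (fun _ : U => (1 : ℂ)) (fun _ : U => (1 : ℂ)) = 1 := Core.classInner_irr_self Core.isIrr_one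
  have hab : ∑ χ : IrrCharacter S, a χ * b χ = 2 := by
    have h1 := inner_U U B hUB hfix hidx lam hlU 1
    have h2 : (fun x : U => (((1 : U →* ℂˣ) x : ℂˣ) : ℂ)) = fun _ : U => (1 : ℂ) := by
      funext x
      simp
    rw [h2, hone, ← hΘdef, hres] at h1
    have h3 : ((∑ χ : IrrCharacter S, a χ * b χ : ℕ) : ℂ) = ((2 : ℕ) : ℂ) := by
      push_cast
      rw [← Finset.sum_congr rfl fun χ _ => by rw [← hb χ], h1]
      norm_num
    exact_mod_cast h3
  have hac : ∑ χ : IrrCharacter S, a χ * c χ = 1 := by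
    have h1 := inner_U U B hUB hfix hidx lam hlU ψ
    have h2 : classInner (fun _ : U => (1 : ℂ)) (fun x : U => ((ψ x : ℂˣ) : ℂ)) = 0 := by
      refine Core.classInner_irr_ne Core.isIrr_one (Linear.isIrrCharacter_hom ψ) fun h => ?_
      obtain ⟨x, hx⟩ := hψ1
      exact hx (Units.ext (congrFun h x).symm)
    rw [h2, add_zero, ← hΘdef, hres] at h1
    have h3 : ((∑ χ : IrrCharacter S, a χ * c χ : ℕ) : ℂ) = ((1 : ℕ) : ℂ) := by
      push_cast
      rw [← Finset.sum_congr rfl fun χ _ => by rw [← hc χ], h1]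
    exact_mod_cast h3
  have hle : ∀ χ : IrrCharacter S, a χ ≤ b χ := by
    intro χ
    refine inner_le U B hUB lam hlU (Core.isIrr_isCharacter χ.2) ?_ (hb χ)
    have h1 := Cfsg.Agent.OddOrderCharacters.Clifford.classInner_indFun B (fun b => ((lam b : ℂˣ) : ℂ)) (χ : S → ℂ)
      (Core.isIrr_isClassFunction χ.2)
    rw [← hΘdef, ha χ] at h1
    have h2 : classInner (fun x : B => (χ : S → ℂ) x) (fun x : B => ((lam x : ℂˣ) : ℂ)) =
        conj (classInner (fun x : B => ((lam x : ℂˣ) : ℂ)) (fun x : B => (χ : S → ℂ) x)) := by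
      rw [Core.classInner_def, Core.classInner_def, map_mul, map_sum, map_inv₀, map_natCast]
      congr 1
      refine Finset.sum_congr rfl fun x _ => ?_
      rw [map_mul, Complex.conj_conj, mul_comm]
    rw [h2, ← h1, map_natCast]
  have hterm : ∀ χ : IrrCharacter S, a χ * b χ ≤ 2 := fun χ => by
    rw [← hab]
    exact Finset.single_le_sum (f := fun χ : IrrCharacter S => a χ * b χ) (fun _ _ => Nat.zero_le _)
      (Finset.mem_univ χ)
  have hmult : ∀ χ : IrrCharacter S, a χ ≤ 1 := by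
    intro χ
    by_contra hcon
    have h1 := hterm χ
    have h2 := hle χ
    have h3 : 2 * 2 ≤ a χ * b χ := Nat.mul_le_mul (by omega) (by omega)
    omega
  have hw : ∀ χ : IrrCharacter S, a χ ≠ 0 → 1 ≤ a χ * b χ := fun χ h =>
    Nat.mul_pos (Nat.pos_of_ne_zero h) ((Nat.pos_of_ne_zero h).trans_le (hle χ))
  have ha0 : a θ ≠ 0 := fun h => hθ (by rw [ha, h, Nat.cast_zero])
  have ha1 : a θ = 1 := by
    have := hmult θ
    omega
  refine ⟨by rw [ha, ha1, Nat.cast_one], fun k hk hkp => ?_⟩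
  -- the Galois map
  obtain ⟨σ, hσ⟩ := GaloisBasic.exists_ringEquiv_pow (Nat.card_pos (α := S)).ne' hk
  have hσS : ∀ (χ : S → ℂ), IsCharacter S χ → ∀ g : S, σ (χ g) = χ (g ^ k) := fun χ hχ g =>
    GaloisBasic.map_apply_card σ hσ hχ g
  let E : IrrCharacter S → IrrCharacter S := fun χ => ⟨fun g => (χ : S → ℂ) (g ^ k), GaloisIrr.isIrr_pow hk χ.2⟩
  have hEσ : ∀ χ : IrrCharacter S, ((E χ : IrrCharacter S) : S → ℂ) = fun g => σ ((χ : S → ℂ) g) := fun χ =>
    funext fun g => (hσS χ (Core.isIrr_isCharacter χ.2) g).symm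
  have hEinj : Function.Injective E := by
    intro χ χ' h
    apply Subtype.ext
    funext g
    have h1 := congrFun (congrArg Subtype.val h) g
    rw [hEσ, hEσ] at h1
    exact σ.injective h1
  have hΘk : ∀ g : S, Θ (g ^ k) = Θ g := by
    intro g
    rw [hΘdef, Core.indFun_apply, Core.indFun_apply]
    congr 1
    refine Finset.sum_congr rfl fun x _ => ?_
    have e : x⁻¹ * g ^ k * x = (x⁻¹ * g * x) ^ k := by
      have := conj_pow (i := k) (a := x⁻¹) (b := g)
      rw [inv_inv] at this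
      exact this.symm
    rw [e]
    set y := x⁻¹ * g * x with hy
    by_cases hyB : y ∈ B
    · rw [Core.extendByZero_of_mem B _ hyB, Core.extendByZero_of_mem B _ (B.pow_mem hyB k)]
      exact congrArg (fun z : ℂˣ => (z : ℂ)) (hpow k hk hkp ⟨y, hyB⟩)
    · have hyk : y ^ k ∉ B := by
        intro h
        apply hyB
        obtain ⟨j, hj⟩ := exists_pow_eq_self_of_coprime (hk.coprime_dvd_right (orderOf_dvd_natCard y))
        rw [← hj]
        exact B.pow_mem h j
      rw [Core.extendByZero_of_notMem B _ hyB, Core.extendByZero_of_notMem B _ hyk]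
  have haE : ∀ χ, a (E χ) = a χ := by
    intro χ
    have h1 : classInner Θ ((E χ : IrrCharacter S) : S → ℂ) = σ (classInner Θ (χ : S → ℂ)) := by
      rw [← GaloisIrr.classInner_map σ (Core.isIrr_isCharacter χ.2), hEσ]
      congr 1
      funext g
      rw [hσS Θ hΘ, hΘk]
    rw [ha, ha, map_natCast] at h1
    exact_mod_cast h1
  have hcE : ∀ χ, c (E χ) = c χ := by
    intro χ
    have h2 : (fun x : U => ((ψ x : ℂˣ) : ℂ)) = fun x : U => σ ((ψ x : ℂˣ) : ℂ) := by
      funext x
      have hkU : k.Coprime (Nat.card U) := Nat.Coprime.coprime_dvd_right (Subgroup.card_subgroup_dvd_card U) hk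
      have h3 : σ ((ψ x : ℂˣ) : ℂ) = ((ψ (x ^ k) : ℂˣ) : ℂ) :=
        GaloisBasic.map_apply_card (G := U) σ (fun z hz => hσ z (by
          obtain ⟨m, hm⟩ := Subgroup.card_subgroup_dvd_card U
          rw [hm, pow_mul, hz, one_pow])) (Linear.isCharacter_hom ψ) x
      rw [h3, map_pow]
      congr 1
      have h4 : ψ x ^ k = ψ x ^ 1 := by
        rw [pow_eq_pow_iff_modEq]
        exact hkp.of_dvd (orderOf_dvd_of_pow_eq_one (hψp x))
      rw [h4, pow_one]
    have h1 : classInner (fun x : U => ((E χ : IrrCharacter S) : S → ℂ) x) (fun x : U => ((ψ x : ℂˣ) : ℂ)) =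
        σ (classInner (fun x : U => (χ : S → ℂ) x) (fun x : U => ((ψ x : ℂˣ) : ℂ))) := by
      rw [← GaloisIrr.classInner_map σ (Linear.isCharacter_hom ψ)]
      congr 1
      funext x
      rw [hEσ]
    rw [hc, hc, map_natCast] at h1
    exact_mod_cast h1
  -- the constituent which contains `ψ`
  obtain ⟨θ₁, hθ₁⟩ : ∃ θ₁ : IrrCharacter S, a θ₁ * c θ₁ ≠ 0 := by
    by_contra hcon
    push Not at hcon
    rw [Finset.sum_congr rfl fun χ _ => hcon χ, Finset.sum_const_zero] at hac
    exact zero_ne_one hac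
  have huniq : ∀ χ : IrrCharacter S, a χ * c χ ≠ 0 → χ = θ₁ := by
    intro χ hχ
    by_contra hne
    have h1 : a χ * c χ + a θ₁ * c θ₁ ≤ 1 := by
      rw [← hac, ← Finset.sum_pair (f := fun χ : IrrCharacter S => a χ * c χ) hne]
      exact Finset.sum_le_univ_sum_of_nonneg (fun _ => Nat.zero_le _)
    omega
  have hθ₁E : E θ₁ = θ₁ := huniq _ (by rw [haE, hcE]; exact hθ₁)
  have hmain : E θ = θ := by
    by_contra hne
    have h1 : θ ≠ θ₁ := fun h => hne (by rw [h, hθ₁E])
    have h2 : E θ ≠ θ₁ := fun h => h1 (hEinj (by rw [h, hθ₁E]))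
    have h3 := sum_ge_three (fun χ : IrrCharacter S => a χ * b χ) (Ne.symm hne) h1 h2 (hw θ ha0)
      (hw _ (by rw [haE]; exact ha0)) (hw θ₁ fun h => hθ₁ (by rw [h, zero_mul]))
    omega
  exact fun g => congrFun (congrArg Subtype.val hmain) g

end Cfsg.Agent.H690.CY
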