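import Cfsg.Agent.H690.CY.RankOne
import Cfsg.Agent.H661.OC.OwnRX
import Cfsg.Agent.H712.OC.Lam
import Cfsg.Agent.H776.CY.Congr
import Cfsg.Agent.FixBN.ReeSplit
import Cfsg.Agent.S4613

/-!
# S4829: the small Ree groups, `p = 3` (helper690)

`lam` is the sign on `U / [U, U] ≅ K`; `-1` is not a square, so `lam (h (-1)) = -1`; `Ind_B lam` is treated by
`mult_one_cyc`.
-/

set_option autoImplicit false
set_option linter.unusedSectionVars false

open Cfsg

namespace Cfsg.Agent.H690.CY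

open Cfsg.Agent.H770.CY Cfsg.Agent.H712.OC
open Cfsg.Agent.LieRecognition.ReeAbs Cfsg.Agent.LieRecognition.ReeSylowThree Cfsg.Agent.FixBN.ReeSplit

universe u

section ree

variable {K : Type*} [Field K] [Fintype K] {m : ℕ} {G : Type u} [Group G] {U : K → K → K → G} {h : Kˣ → G} {n : G}

/-! ### the coordinate of `U / [U, U]` -/

/-- the first coordinate -/
noncomputable def tc (D : Data m U h n) (x : uSub D) : K := ((mem_uSub D).1 x.2).choose

theorem tc_spec (D : Data m U h n) (x : uSub D) : ∃ u v, (x : G) = U (tc D x) u v := ((mem_uSub D).1 x.2).choose_spec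

theorem tc_eq (D : Data m U h n) {x : uSub D} {t u v : K} (hx : (x : G) = U t u v) : tc D x = t := by
  obtain ⟨u', v', h1⟩ := tc_spec D x
  rw [hx] at h1
  exact (U_injective D h1).1.symm

/-- the coordinate as a homomorphism -/
noncomputable def tch (D : Data m U h n) : uSub D →* Multiplicative K :=
  MonoidHom.mk' (fun x => Multiplicative.ofAdd (tc D x)) (by
    intro x y
    obtain ⟨u, v, h1⟩ := tc_spec D x
    obtain ⟨u', v', h2⟩ := tc_spec D y
    have h3 : ((x * y : uSub D) : G) = U (tc D x) u v * U (tc D y) u' v' := by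
      rw [Subgroup.coe_mul, ← h1, ← h2]
    rw [D.U_mul] at h3
    rw [tc_eq D h3, ofAdd_add])

theorem tch_apply (D : Data m U h n) (x : uSub D) : tch D x = Multiplicative.ofAdd (tc D x) := rfl

/-- the elements `U 0 u v` are killed by the linear characters of `U` -/
theorem kill (hm : 1 ≤ m) (hK : Fintype.card K = 3 ^ (2 * m + 1)) (D : Data m U h n) (f : uSub D →* ℂˣ) (x : uSub D)
    (hx : tc D x = 0) : f x = 1 := by
  have hch := charP_three hK
  have he : (3 ^ (m + 1)) ≠ 0 := by positivity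
  let E : K → K → K → uSub D := fun t u v => ⟨U t u v, t, u, v, rfl⟩
  have hE : ∀ t u v t' u' v', E t u v * E t' u' v' =
      E (t + t') (u + u' - t * t' ^ (3 ^ (m + 1))) (v + v' - u * t' - t ^ 2 * t' ^ (3 ^ (m + 1)) +
        t * t' * t' ^ (3 ^ (m + 1))) := fun t u v t' u' v' => Subtype.ext (D.U_mul t u v t' u' v')
  have hcomm : ∀ a b : uSub D, f (a * b) = f (b * a) := fun a b => by rw [map_mul, map_mul, mul_comm]
  have hE0 : E 0 0 0 = 1 := Subtype.ext D.U_zero
  -- the third coordinate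
  have hsplit : ∀ t u v w, f (E t u (v + w)) = f (E t u v) * f (E 0 0 w) := by
    intro t u v w
    rw [← map_mul, hE]
    congr 2 <;> simp [zero_pow he]
  have h1 : ∀ w, f (E 0 0 w) = 1 := by
    intro w
    have h2 := hcomm (E 1 0 0) (E 0 (-w) 0)
    rw [hE, hE] at h2
    have h3 : E (1 + 0) (0 + -w - 1 * 0 ^ 3 ^ (m + 1))
        (0 + 0 - 0 * 0 - 1 ^ 2 * 0 ^ 3 ^ (m + 1) + 1 * 0 * 0 ^ 3 ^ (m + 1)) = E 1 (-w) 0 := by
      congr 1 <;> simp [zero_pow he]
    have h4 : E (0 + 1) (-w + 0 - 0 * 1 ^ 3 ^ (m + 1))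
        (0 + 0 - -w * 1 - 0 ^ 2 * 1 ^ 3 ^ (m + 1) + 0 * 1 * 1 ^ 3 ^ (m + 1)) = E 1 (-w) (0 + w) := by
      congr 1 <;> simp
    rw [h3, h4, hsplit] at h2
    exact left_eq_mul.1 h2
  -- the second coordinate
  let g : K → ℂˣ := fun u => f (E 0 u 0)
  have hg : ∀ t u v, f (E t u v) = f (E t 0 0) * g u := by
    intro t u v
    have h2 : E t 0 0 * E 0 u 0 = E t u 0 := by
      rw [hE]
      congr 1 <;> simp [zero_pow he]
    have h3 := hsplit t u 0 v
    rw [zero_add, h1, mul_one, ← h2, map_mul] at h3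
    exact h3
  have hgadd : ∀ u u', g (u + u') = g u * g u' := by
    intro u u'
    show f _ = f _ * f _
    rw [← map_mul, hE]
    congr 2 <;> simp
  have hgsym : ∀ t t', g (t * t' ^ 3 ^ (m + 1)) = g (t' * t ^ 3 ^ (m + 1)) := by
    intro t t'
    have h2 := hcomm (E t 0 0) (E t' 0 0)
    rw [hE, hE, hg, hg (t' + t), add_comm t' t] at h2
    have h3 := mul_left_cancel h2
    rw [add_zero, zero_sub, zero_sub] at h3
    have hneg : ∀ u, g (-u) = (g u)⁻¹ := by
      intro u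
      rw [eq_inv_iff_mul_eq_one, ← hgadd, neg_add_cancel]
      show f (E 0 0 0) = 1
      rw [hE0, map_one]
    rw [hneg, hneg] at h3
    exact inv_injective h3
  have hcube : ∀ x : K, (x ^ 3 ^ (m + 1)) ^ 3 ^ (m + 1) = x ^ 3 := by
    intro x
    rw [← pow_mul, ← pow_add]
    have h2 : 3 ^ (m + 1 + (m + 1)) = 3 ^ (2 * m + 1) * 3 := by
      rw [← pow_succ]
      congr 1
      ring
    rw [h2, pow_mul, ← hK, FiniteField.pow_card]
  have hgthree : ∀ t t', g (t * t' ^ 3) = g (t' * t ^ 3) := by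
    intro t t'
    have h2 := hgsym t (t' ^ 3 ^ (m + 1))
    have h3 := hgsym t' (t ^ 3 ^ (m + 1))
    rw [hcube] at h2 h3
    rw [h2, mul_comm, h3] 
  have hfrob : ∀ y : K, g (y ^ 3) = g y := by
    intro y
    have := hgthree 1 y
    rwa [one_mul, one_pow, mul_one] at this
  have hnine : ∀ s t : K, g (s ^ 3 * t ^ 9) = g (s ^ 3 * t) := by
    intro s t
    have h2 : s ^ 3 * t ^ 9 = (s * t ^ 3) ^ 3 := by ring
    rw [h2, hfrob, hgthree s t, mul_comm t]
  obtain ⟨t, ht⟩ : ∃ t : K, t ^ 9 - t ≠ 0 := by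
    by_contra hcon
    push Not at hcon
    have h2 : (Polynomial.X ^ 9 - Polynomial.X : Polynomial K).natDegree = 9 :=
      FiniteField.X_pow_card_sub_X_natDegree_eq K (by norm_num)
    have h3 : (Polynomial.X ^ 9 - Polynomial.X : Polynomial K) ≠ 0 := FiniteField.X_pow_card_sub_X_ne_zero K (by norm_num)
    have h4 : Fintype.card K ≤ 9 := by
      classical
      rw [← h2]
      refine Polynomial.card_le_degree_of_subset_roots (Z := Finset.univ) ?_
      intro x _
      rw [Polynomial.mem_roots h3, Polynomial.IsRoot.def, Polynomial.eval_sub, Polynomial.eval_pow, Polynomial.eval_X]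
      exact hcon x
    have h5 : 3 ^ 3 ≤ 3 ^ (2 * m + 1) := Nat.pow_le_pow_right (by norm_num) (by omega)
    rw [hK] at h4
    omega
  have hcubesurj : ∀ y : K, ∃ s : K, s ^ 3 = y := by
    intro y
    have hb : Function.Bijective (fun x : K => x ^ 3) := by
      have h2 := (frobenius K 3)
      have h3 : Function.Injective (fun x : K => x ^ 3) := fun a b hab => frobenius_inj K 3 hab
      exact Finite.injective_iff_bijective.1 h3
    exact hb.2 y
  have hg1 : ∀ y, g y = 1 := by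
    intro y
    obtain ⟨s, hs⟩ := hcubesurj (y / (t ^ 9 - t))
    have h2 := hnine s t
    have h3 : s ^ 3 * t ^ 9 = y + s ^ 3 * t := by
      have h4 : s ^ 3 * (t ^ 9 - t) = y := by rw [hs, div_mul_cancel₀ _ ht]
      linear_combination h4
    rw [h3, hgadd] at h2
    exact mul_eq_right.1 h2
  obtain ⟨u, v, hxu⟩ := tc_spec D x
  rw [hx] at hxu
  have h2 : x = E 0 u v := Subtype.ext hxu
  rw [h2, hg, hg1, mul_one, hE0, map_one]

/-! ### the Borel subgroup -/

theorem card_bSub (D : Data m U h n) : Nat.card (bSub D) = (Fintype.card K) ^ 3 * (Fintype.card K - 1) := by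
  let f : (K × K × K) × Kˣ → bSub D := fun x =>
    ⟨U x.1.1 x.1.2.1 x.1.2.2 * h x.2, U x.1.1 x.1.2.1 x.1.2.2, ⟨_, _, _, rfl⟩, x.2, rfl⟩
  have hf : Function.Bijective f := by
    constructor
    · rintro ⟨⟨t, u, v⟩, a⟩ ⟨⟨t', u', v'⟩, a'⟩ he
      obtain ⟨rfl, rfl, rfl, rfl⟩ := D.inj₁ _ _ _ _ _ _ _ _ (congrArg Subtype.val he)
      rfl
    · rintro ⟨g, x, ⟨t, u, v, rfl⟩, a, rfl⟩
      exact ⟨((t, u, v), a), rfl⟩
  rw [← Nat.card_congr (Equiv.ofBijective f hf), Nat.card_prod, Nat.card_prod, Nat.card_prod, Nat.card_units,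
    Nat.card_eq_fintype_card]
  ring

theorem one_lt_q : 1 < Fintype.card K := Fintype.one_lt_card

theorem index_bSub (D : Data m U h n) : (bSub D).index = Nat.card (uSub D) + 1 := by
  have h1 := (bSub D).card_mul_index
  rw [card_bSub, card_eq D] at h1
  rw [card_uSub]
  have h2 : 0 < (Fintype.card K) ^ 3 * (Fintype.card K - 1) := by
    have := one_lt_q (K := K)
    have h3 : 0 < Fintype.card K - 1 := by omega
    positivity
  exact Nat.eq_of_mul_eq_mul_left h2 h1

theorem b_conj (D : Data m U h n) {b x : G} (hb : b ∈ bSub D) (hx : x ∈ uSub D) : b * x * b⁻¹ ∈ uSub D := by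
  obtain ⟨u, hu, a, rfl⟩ := hb
  have h1 : u * h a * x * (u * h a)⁻¹ = u * (h a * x * (h a)⁻¹) * u⁻¹ := by group
  rw [h1]
  exact mul_mem (mul_mem hu (h_conj_mem D a hx)) (inv_mem hu)

theorem fix_B (D : Data m U h n) : ∀ u ∈ uSub D, u ≠ 1 → ∀ g : G, g⁻¹ * u * g ∈ bSub D → g ∈ bSub D := by
  intro x hx hx1 g hg
  rcases D.bruhat g with ⟨t, u, v, a, rfl⟩ | ⟨t, u, v, a, t', u', v', rfl⟩
  · exact ⟨_, ⟨t, u, v, rfl⟩, a, rfl⟩
  · exfalso
    have hb : U t u v * h a ∈ bSub D := ⟨_, ⟨t, u, v, rfl⟩, a, rfl⟩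
    have hw : U t' u' v' ∈ bSub D := uSub_le_bSub D ⟨t', u', v', rfl⟩
    have h1 := mul_mem (mul_mem hw hg) (inv_mem hw)
    have h2 : U t' u' v' * ((U t u v * h a * n * U t' u' v')⁻¹ * x * (U t u v * h a * n * U t' u' v')) *
        (U t' u' v')⁻¹ = n⁻¹ * ((U t u v * h a)⁻¹ * x * (U t u v * h a)) * n := by group
    rw [h2, D.n_inv] at h1
    have h3 : (U t u v * h a)⁻¹ * x * (U t u v * h a) ∈ uSub D := by
      have := b_conj D (inv_mem hb) hx
      rwa [inv_inv] at this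
    have h4 := eq_one_of_conj D h3 h1
    apply hx1
    have h5 : x = (U t u v * h a) * ((U t u v * h a)⁻¹ * x * (U t u v * h a)) * (U t u v * h a)⁻¹ := by group
    rw [h5, h4]
    group

theorem mem_bSub_iff (D : Data m U h n) (s : G) : s ∈ bSub D ↔ MulAut.conj s ∈ stU (uSub D) := by
  constructor
  · intro hs x
    constructor
    · intro hx
      have h1 := b_conj D (inv_mem hs) hx
      have h2 : s⁻¹ * (MulAut.conj s) x * s⁻¹⁻¹ = x := by
        rw [MulAut.conj_apply]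
        group
      rwa [h2] at h1
    · intro hx
      exact b_conj D hs hx
  · intro hs
    have hx : U 0 1 0 ∈ uSub D := ⟨_, _, _, rfl⟩
    have hx1 : U 0 1 0 ≠ 1 := by
      intro h1
      rw [← D.U_zero] at h1
      exact one_ne_zero (U_injective D h1).2.1
    have h1 := (hs (U 0 1 0)).2 hx
    rw [MulAut.conj_apply] at h1
    have h3 := fix_B D _ h1 (fun h4 => hx1 (by
      have h5 : U 0 1 0 = s⁻¹ * (s * U 0 1 0 * s⁻¹) * s := by group
      rw [h5, h4]
      group)) s (by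
        have h5 : s⁻¹ * (s * U 0 1 0 * s⁻¹) * s = U 0 1 0 := by group
        rw [h5]
        exact uSub_le_bSub D hx)
    exact h3

/-! ### the sign -/

theorem sgn_neg (hm : 1 ≤ m) (hK : Fintype.card K = 3 ^ (2 * m + 1)) (D : Data m U h n) [Finite (uSub D)]
    (hs : MulAut.conj (h (-1)) ∈ stU (uSub D)) : sgnAb (uSub D) ⟨MulAut.conj (h (-1)), hs⟩ ≠ 1 := by
  have hodd : Odd (Nat.card K) := by
    rw [Nat.card_eq_fintype_card, hK]
    exact odd_three_pow _
  have h1 : sgnAut (uSub D) (rsU (uSub D) ⟨MulAut.conj (h (-1)), hs⟩) = ∏ _i : Unit, eta K (-1) := by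
    refine sgnAut_eq (ι := Unit) (F := fun _ => K) (fun _ => hodd) (fun _ => tch D) (fun c => ?_) (fun f u hu => ?_) _
      (fun _ => -1) (fun _ u => ?_)
    · refine ⟨⟨U (c ()) 0 0, _, _, _, rfl⟩, fun i => ?_⟩
      rw [tch_apply]
      congr 1
      exact tc_eq D rfl
    · refine kill hm hK D f u ?_
      have h2 := hu ()
      rw [tch_apply] at h2
      exact congrArg Multiplicative.toAdd h2
    · rw [tch_apply, tch_apply]
      congr 1
      obtain ⟨x, y, h2⟩ := tc_spec D u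
      have h3 : ((rsU (uSub D) ⟨MulAut.conj (h (-1)), hs⟩ u : uSub D) : G) = U (-(tc D u)) x (-y) := by
        rw [rsU_apply]
        show h (-1) * (u : G) * (h (-1))⁻¹ = _
        rw [h2, D.inv_mul_U, mul_inv_cancel_right]
      rw [tc_eq D h3]
      simp
  intro h2
  have h3 := congrArg (fun z : ℂˣ => (z : ℂ)) h2
  simp only [Units.val_one] at h3
  rw [sgnAb_apply, h1] at h3
  have h4 : eta K (-1) = -1 := eta_neg hodd (by
    rw [Units.val_neg, Units.val_one]
    exact not_isSquare_neg_one hK)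
  rw [Finset.univ_unique, Finset.prod_singleton, h4] at h3
  norm_num at h3

/-- **The row of the small Ree groups in characteristic three.** -/
theorem rowA_data (hm : 1 ≤ m) (hK : Fintype.card K = 3 ^ (2 * m + 1)) (D : Data m U h n) [Fintype G] [IsSimpleGroup G]
    (hna : ¬ IsMulCommutative G) (hL : IsLieTypeChar 3 G) : RowA 3 G := by
  have : Fact (Nat.Prime 3) := ⟨Nat.prime_three⟩
  have hch := charP_three hK
  have hpg : IsPGroup 3 (uSub D) := by
    apply IsPGroup.of_card (n := (2 * m + 1) * 3)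
    rw [card_uSub, hK, pow_mul]
  have hcard := card_eq D
  have hidx : (uSub D).index = (Fintype.card K - 1) * ((Fintype.card K) ^ 3 + 1) := by
    have h1 := (uSub D).card_mul_index
    rw [card_uSub, hcard, mul_assoc] at h1
    exact Nat.eq_of_mul_eq_mul_left (pow_pos (Fintype.card_pos) 3) h1
  have hq : 3 ∣ Fintype.card K := by rw [hK]; exact dvd_pow_self 3 (by omega)
  have hn3 : ¬ 3 ∣ (uSub D).index := by
    rw [hidx, Nat.prime_three.dvd_mul]
    have h0 := Fintype.card_pos (α := K)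
    obtain ⟨c, hc⟩ := hq
    rintro (h1 | h1)
    · obtain ⟨d, hd⟩ := h1
      omega
    · have h2 : 3 ∣ Fintype.card K ^ 3 := dvd_pow ⟨c, hc⟩ (by decide)
      rw [Nat.dvd_add_right h2] at h1
      omega
  let lamB : bSub D →* ℂˣ := (sgnAb (uSub D)).comp
    { toFun := fun b => ⟨MulAut.conj (b : G), (mem_bSub_iff D b).1 b.2⟩
      map_one' := Subtype.ext (map_one MulAut.conj)
      map_mul' := fun x y => Subtype.ext (map_mul MulAut.conj (x : G) (y : G)) }
  have hsq : ∀ b, lamB b ^ 2 = 1 := fun b => sgnAb_sq _ _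
  have hlU : ∀ u (hu : u ∈ uSub D), lamB ⟨u, uSub_le_bSub D hu⟩ = 1 := by
    intro u hu
    obtain ⟨k, hk⟩ := hpg ⟨u, hu⟩
    have h1 : u ^ 3 ^ k = 1 := congrArg Subtype.val hk
    have h2 : lamB ⟨u, uSub_le_bSub D hu⟩ ^ 3 ^ k = 1 := by
      rw [← map_pow]
      have h3 : (⟨u, uSub_le_bSub D hu⟩ : bSub D) ^ 3 ^ k = 1 := Subtype.ext h1
      rw [h3, map_one]
    have h3 : orderOf (lamB ⟨u, uSub_le_bSub D hu⟩) ∣ 1 := by
      have h4 : Nat.Coprime 2 (3 ^ k) := Nat.Coprime.pow_right _ (by norm_num)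
      rw [← h4]
      exact Nat.dvd_gcd (orderOf_dvd_of_pow_eq_one (hsq _)) (orderOf_dvd_of_pow_eq_one h2)
    exact orderOf_eq_one_iff.1 (Nat.dvd_one.1 h3)
  -- a linear character of `U`
  obtain ⟨φ, hφ⟩ := CommGroup.exists_apply_ne_one_of_hasEnoughRootsOfUnity (Multiplicative K) ℂ
    (a := Multiplicative.ofAdd (1 : K)) (fun h1 => one_ne_zero (congrArg Multiplicative.toAdd h1))
  refine H661.OC.rowA_own (p := 3) (H661.OC.conj_injective hna)
    (fun a ha ⟨Q, hQ⟩ => S4613.result 3 hL a ha Q hQ) (hpg.toSylow hn3) (stU (uSub D))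
    (fun a ha x => (ha x).symm) (sgnAb (uSub D)) (fun a => sgnAb_sq _ a) (bSub D) (mem_bSub_iff D)
    ⟨h (-1), (mem_bSub_iff D _).1 (h_mem_bSub D _), sgn_neg hm hK D _⟩ (fun θ _ hθ => ?_)
  refine mult_one_cyc (uSub D) (bSub D) (uSub_le_bSub D) (fix_B D) (index_bSub D) lamB hlU
    (fun k hk _ b => H661.OC.pow_eq_of_sq (bSub D) lamB hsq hk b) (φ.comp (tch D))
    ⟨⟨U 1 0 0, _, _, _, rfl⟩, ?_⟩ (fun x => ?_) θ hθ
  · rw [MonoidHom.comp_apply, tch_apply, tc_eq D (t := 1) (u := 0) (v := 0) rfl]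
    exact hφ
  · rw [← map_pow, MonoidHom.comp_apply]
    have h1 : tch D (x ^ 3) = 1 := by
      rw [map_pow, tch_apply, ← ofAdd_nsmul]
      have h2 : (3 : ℕ) • tc D x = 0 := by
        rw [nsmul_eq_mul, CharP.cast_eq_zero K 3, zero_mul]
      rw [h2, ofAdd_zero]
    rw [h1, map_one]

end ree

/-- **S4829: the row of the small Ree groups in characteristic three.** -/
theorem rowA_isoRee {X : Type u} [Group X] [Fintype X] [IsSimpleGroup X] (hna : ¬ IsMulCommutative X)
    (hX : Lie.IsoRee X) : RowA 3 X := by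
  obtain ⟨K, _, _, m, hm, hK, ⟨e⟩⟩ := hX
  obtain ⟨U, h, n, D⟩ := Cfsg.Agent.ChevalleyStructure.Ree.Data.exists_data hK
  have hfin : Finite ↥(Cfsg.Lie.twistedG2 K (3 ^ m)) := finite D
  let _ := Fintype.ofFinite ↥(Cfsg.Lie.twistedG2 K (3 ^ m))
  have hnt : Nontrivial ↥(Cfsg.Lie.twistedG2 K (3 ^ m)) := e.injective.nontrivial
  have hs : IsSimpleGroup ↥(Cfsg.Lie.twistedG2 K (3 ^ m)) := IsSimpleGroup.isSimpleGroup_of_surjective (e : X →* _) e.surjective
  have hna' : ¬ IsMulCommutative ↥(Cfsg.Lie.twistedG2 K (3 ^ m)) := by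
    intro hc
    apply hna
    exact ⟨⟨fun a b => e.injective (by rw [map_mul, map_mul]; exact hc.is_comm.comm _ _)⟩⟩
  exact Cfsg.Agent.H776.CY.RowA.congr e (rowA_data hm hK D hna'
    (Or.inr (Or.inr (Or.inr (Or.inr (Or.inr (Or.inr (Or.inr (Or.inr (Or.inr (Or.inr
      ⟨rfl, K, _, _, m, hm, hK, ⟨MulEquiv.refl _⟩⟩)))))))))))

/-- the row of S4829 -/
theorem rowForA_ree : RowForA 3 (fun X _ => Lie.IsoRee X) := fun X _ _ _ hna _ hX => rowA_isoRee hna hX

end Cfsg.Agent.H690.CY
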